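import Mathlib
import Cfsg.Prelude.Def_KGroupFacts
import Cfsg.Agent.Lib.Helper20.AltMultG

/-!
# The sixfold covers of `A₆` and `A₇`: the abstract part

A group generated by lifts `Y i` of Carmichael's generators and a central element `Z` of order
dividing six, with Carmichael's relations twisted by powers of `Z`, of order six times the order of
the alternating group, is a stem extension of the alternating group with kernel `⟨Z⟩` of order six.
-/

set_option autoImplicit false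

namespace Cfsg.Agent.Helper9.AltCov

open Cfsg.Agent.Helper11.Carmichael Cfsg.Agent.Helper20.AltMult

/-- The data of a sixfold cover. -/
structure CovData (Γ : Type) [Group Γ] (m : ℕ) where
  Y : ℕ → Γ
  Z : Γ
  gen : Subgroup.closure ({g | ∃ i, i < m ∧ g = Y i} ∪ {Z}) = ⊤
  comm : ∀ i, i < m → Z * Y i = Y i * Z
  z6 : Z ^ 6 = 1
  cube : Y 0 ^ 3 = 1
  sq : ∀ i, 1 ≤ i → i < m → Y i ^ 2 = Z ^ 3
  adj : ∀ i, i + 1 < m → (Y i * Y (i + 1)) ^ 3 = 1
  far : ∀ i j, i + 1 < j → j < m → ¬ (i = 0 ∧ j = 3) → (Y i * Y j) ^ 2 = Z ^ 3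
  far03 : (Y 0 * Y 3) ^ 2 = Z
  π : Γ →* PresentedGroup (carRels m)
  πY : ∀ i, i < m → π (Y i) = tgen m i
  πZ : π Z = 1

namespace CovData

variable {Γ : Type} [Group Γ] {m : ℕ} (D : CovData Γ m)

theorem Z_mem_center : D.Z ∈ Subgroup.center Γ := by
  rw [Subgroup.mem_center_iff]
  intro g
  have hg : g ∈ Subgroup.closure ({g | ∃ i, i < m ∧ g = D.Y i} ∪ {D.Z}) := by
    rw [D.gen]; exact Subgroup.mem_top g
  induction hg using Subgroup.closure_induction with
  | mem x hx =>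
    rcases hx with ⟨i, hi, rfl⟩ | hx
    · exact (D.comm i hi).symm
    · rw [Set.mem_singleton_iff.1 hx]
  | one => rw [one_mul, mul_one]
  | mul x y _ _ hx hy => rw [mul_assoc, hy, ← mul_assoc, hx, mul_assoc]
  | inv x _ hx =>
    calc x⁻¹ * D.Z = x⁻¹ * (D.Z * x) * x⁻¹ := by group
      _ = x⁻¹ * (x * D.Z) * x⁻¹ := by rw [hx]
      _ = D.Z * x⁻¹ := by group

theorem zpowers_le_center : Subgroup.zpowers D.Z ≤ Subgroup.center Γ := by
  rw [Subgroup.zpowers_le]
  exact D.Z_mem_center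

instance zpowers_normal : (Subgroup.zpowers D.Z).Normal := normal_of_le_center D.zpowers_le_center

theorem π_surjective : Function.Surjective D.π := by
  rw [← MonoidHom.range_eq_top, eq_top_iff, ← PresentedGroup.closure_range_of, Subgroup.closure_le]
  rintro _ ⟨i, rfl⟩
  exact ⟨D.Y i.val, by rw [D.πY i.val i.2, tgen_of_lt m i.val i.2]⟩

theorem zpowers_le_ker : Subgroup.zpowers D.Z ≤ D.π.ker := by
  rw [Subgroup.zpowers_le, MonoidHom.mem_ker]
  exact D.πZ

section quot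

/-- The images of the generators in the quotient by `⟨Z⟩`. -/
noncomputable def qgen : Fin m → Γ ⧸ Subgroup.zpowers D.Z :=
  fun i => ((D.Y i.val : Γ) : Γ ⧸ Subgroup.zpowers D.Z)

theorem mk_eq_one_of_eq_pow {g : Γ} {k : ℕ} (h : g = D.Z ^ k) :
    ((g : Γ) : Γ ⧸ Subgroup.zpowers D.Z) = 1 := by
  rw [QuotientGroup.eq_one_iff, h]
  exact Subgroup.pow_mem _ (Subgroup.mem_zpowers _) k

theorem qgen_rels (hm : 4 ≤ m) : ∀ r ∈ carRels m, FreeGroup.lift D.qgen r = 1 := by
  intro r hr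
  rcases hr with ((⟨i, hi, rfl⟩ | ⟨i, hi, rfl⟩) | ⟨i, j, hij, rfl⟩) | ⟨i, j, hij, rfl⟩
  · rw [map_pow, FreeGroup.lift_apply_of]
    show ((D.Y i.val : Γ) : Γ ⧸ Subgroup.zpowers D.Z) ^ 3 = 1
    rw [← QuotientGroup.mk_pow, hi, D.cube]
    rfl
  · rw [map_pow, FreeGroup.lift_apply_of]
    show ((D.Y i.val : Γ) : Γ ⧸ Subgroup.zpowers D.Z) ^ 2 = 1
    rw [← QuotientGroup.mk_pow]
    exact D.mk_eq_one_of_eq_pow (D.sq i.val hi i.2)
  · rw [map_pow, map_mul, FreeGroup.lift_apply_of, FreeGroup.lift_apply_of]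
    show (((D.Y i.val : Γ) : Γ ⧸ Subgroup.zpowers D.Z) * ((D.Y j.val : Γ) : Γ ⧸ _)) ^ 3 = 1
    rw [← QuotientGroup.mk_mul, ← QuotientGroup.mk_pow, hij, D.adj i.val (by have := j.2; omega)]
    rfl
  · rw [map_pow, map_mul, FreeGroup.lift_apply_of, FreeGroup.lift_apply_of]
    show (((D.Y i.val : Γ) : Γ ⧸ Subgroup.zpowers D.Z) * ((D.Y j.val : Γ) : Γ ⧸ _)) ^ 2 = 1
    rw [← QuotientGroup.mk_mul, ← QuotientGroup.mk_pow]
    by_cases h03 : i.val = 0 ∧ j.val = 3
    · rw [h03.1, h03.2]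
      exact D.mk_eq_one_of_eq_pow (k := 1) (by rw [pow_one]; exact D.far03)
    · exact D.mk_eq_one_of_eq_pow (D.far i.val j.val hij j.2 h03)

/-- The homomorphism from the alternating group to the quotient by `⟨Z⟩`. -/
noncomputable def ψ (hm : 4 ≤ m) : PresentedGroup (carRels m) →* Γ ⧸ Subgroup.zpowers D.Z :=
  PresentedGroup.toGroup (D.qgen_rels hm)

theorem ψ_comp (hm : 4 ≤ m) :
    (D.ψ hm).comp D.π = QuotientGroup.mk' (Subgroup.zpowers D.Z) := by
  apply MonoidHom.eq_of_eqOn_dense D.gen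
  · rintro g (⟨i, hi, rfl⟩ | hg)
    · show D.ψ hm (D.π (D.Y i)) = _
      rw [D.πY i hi, tgen_of_lt m i hi]
      exact PresentedGroup.toGroup.of _
    · rw [Set.mem_singleton_iff.1 hg]
      show D.ψ hm (D.π D.Z) = _
      rw [D.πZ, map_one]
      exact (D.mk_eq_one_of_eq_pow (k := 1) (pow_one _).symm).symm

theorem ker_eq (hm : 4 ≤ m) : D.π.ker = Subgroup.zpowers D.Z := by
  apply le_antisymm _ D.zpowers_le_ker
  intro g hg
  have h1 : (D.ψ hm).comp D.π g = 1 := by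
    rw [MonoidHom.comp_apply, MonoidHom.mem_ker.1 hg, map_one]
  rw [D.ψ_comp hm] at h1
  exact (QuotientGroup.eq_one_iff g).1 h1

end quot

theorem ker_le_center (hm : 4 ≤ m) : D.π.ker ≤ Subgroup.center Γ := by
  rw [D.ker_eq hm]
  exact D.zpowers_le_center

/-- `Z` dies in the abelianization. -/
theorem Z_mem_commutator (hm : 4 ≤ m) : D.Z ∈ commutator Γ := by
  rw [← Abelianization.ker_of, MonoidHom.mem_ker]
  set φ : Γ →* Abelianization Γ := Abelianization.of with hφ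
  set a : ℕ → Abelianization Γ := fun i => φ (D.Y i) with ha
  set c : Abelianization Γ := φ D.Z with hc
  have h0 : a 0 ^ 3 = 1 := by rw [ha]; show φ (D.Y 0) ^ 3 = 1; rw [← map_pow, D.cube, map_one]
  have hsq : ∀ i, 1 ≤ i → i < m → a i ^ 2 = c ^ 3 := by
    intro i h1 h2
    show φ (D.Y i) ^ 2 = φ D.Z ^ 3
    rw [← map_pow, ← map_pow, D.sq i h1 h2]
  have hadj : ∀ i, i + 1 < m → a i ^ 3 * a (i + 1) ^ 3 = 1 := by
    intro i h
    show φ (D.Y i) ^ 3 * φ (D.Y (i + 1)) ^ 3 = 1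
    rw [← mul_pow, ← map_mul, ← map_pow, D.adj i h, map_one]
  have h02 : a 0 ^ 2 * a 2 ^ 2 = c ^ 3 := by
    show φ (D.Y 0) ^ 2 * φ (D.Y 2) ^ 2 = φ D.Z ^ 3
    rw [← mul_pow, ← map_mul, ← map_pow, ← map_pow, D.far 0 2 (by omega) (by omega) (by omega)]
  have h03 : a 0 ^ 2 * a 3 ^ 2 = c := by
    show φ (D.Y 0) ^ 2 * φ (D.Y 3) ^ 2 = φ D.Z
    rw [← mul_pow, ← map_mul, ← map_pow, D.far03]
  have hc6 : c ^ 6 = 1 := by rw [hc, ← map_pow, D.z6, map_one]
  -- the computation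
  have a1c : a 1 ^ 3 = 1 := by have := hadj 0 (by omega); rwa [h0, one_mul] at this
  have e1 : a 1 = (c ^ 3)⁻¹ := by
    have h := hsq 1 le_rfl (by omega)
    calc a 1 = a 1 ^ 3 * (a 1 ^ 2)⁻¹ := by rw [pow_succ (a 1) 2, mul_inv_cancel_comm]
      _ = (c ^ 3)⁻¹ := by rw [a1c, h, one_mul]
  have c3 : c ^ 3 = 1 := by
    have h := hsq 1 le_rfl (by omega)
    rw [e1, inv_pow, ← pow_mul, hc6, inv_one] at h
    exact h.symm
  have one_of : ∀ x : Abelianization Γ, x ^ 3 = 1 → x ^ 2 = 1 → x = 1 := by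
    intro x h3 h2
    calc x = x ^ 3 * (x ^ 2)⁻¹ := by rw [pow_succ x 2, mul_inv_cancel_comm]
      _ = 1 := by rw [h3, h2, inv_one, one_mul]
  have a2c : a 2 ^ 3 = 1 := by have := hadj 1 (by omega); rwa [a1c, one_mul] at this
  have a2 : a 2 = 1 := one_of _ a2c (by rw [hsq 2 (by omega) (by omega), c3])
  have a3c : a 3 ^ 3 = 1 := by have := hadj 2 (by omega); rwa [a2c, one_mul] at this
  have a3 : a 3 = 1 := one_of _ a3c (by rw [hsq 3 (by omega) (by omega), c3])
  have a0 : a 0 = 1 := by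
    apply one_of _ h0
    rw [a2, one_pow, mul_one, c3] at h02
    exact h02
  rw [a0, a3, one_pow, one_mul] at h03
  exact h03.symm

theorem ker_le_commutator (hm : 4 ≤ m) : D.π.ker ≤ commutator Γ := by
  rw [D.ker_eq hm, Subgroup.zpowers_le]
  exact D.Z_mem_commutator hm

theorem isStem (hm : 4 ≤ m) : Cfsg.IsStemExtension D.π :=
  ⟨D.π_surjective, D.ker_le_center hm, D.ker_le_commutator hm⟩

theorem card_ker [Finite Γ] (hcard : Nat.card Γ = 6 * Nat.card (PresentedGroup (carRels m))) :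
    Nat.card D.π.ker = 6 := by
  have h1 := Subgroup.card_eq_card_quotient_mul_card_subgroup D.π.ker
  have h2 : Nat.card (Γ ⧸ D.π.ker) = Nat.card (PresentedGroup (carRels m)) :=
    Nat.card_congr (QuotientGroup.quotientKerEquivOfSurjective D.π D.π_surjective).toEquiv
  haveI : Finite (PresentedGroup (carRels m)) := Finite.of_surjective _ D.π_surjective
  have hpos : 0 < Nat.card (PresentedGroup (carRels m)) := Nat.card_pos
  rw [h2, hcard, mul_comm 6] at h1
  exact (Nat.eq_of_mul_eq_mul_left hpos h1).symm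

theorem card_mult_zmod6 : Nat.card (Multiplicative (ZMod 6)) = 6 := by
  rw [Nat.card_eq_fintype_card]
  rfl

/-- The kernel is cyclic of order six. -/
theorem nonempty_ker_equiv [Finite Γ] (hm : 4 ≤ m)
    (hcard : Nat.card Γ = 6 * Nat.card (PresentedGroup (carRels m))) :
    Nonempty (D.π.ker ≃* Multiplicative (ZMod 6)) := by
  haveI : IsCyclic D.π.ker := by
    rw [D.ker_eq hm]
    infer_instance
  exact ⟨mulEquivOfCyclicCardEq ((D.card_ker hcard).trans card_mult_zmod6.symm)⟩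

end CovData

end Cfsg.Agent.Helper9.AltCov
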