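import Mathlib
import Cfsg.Agent.Lib.Helper9.AltCov.Basic
import Cfsg.Agent.Lib.Helper9.TCData.A7C0.Cert

/-!
# The sixfold cover of the alternating group of degree 7

The group presented on lifts of Carmichael's generators and a central element of order six has
order `15120` (coset enumeration, `TCData.A7C0`); it is a stem extension of the alternating group
with cyclic kernel of order six.
-/

set_option autoImplicit false
set_option maxRecDepth 100000

namespace Cfsg.Agent.Helper9.AltCov.C7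

open Cfsg.Spor Cfsg.Agent.Helper9.TC2 Cfsg.Agent.Helper9.TCData Cfsg.Agent.Helper9.TCData.A7C0
open Cfsg.Agent.Helper11.Carmichael

/-- The presented group. -/
abbrev GG : Type := PresentedGroup (relSet edges extra)

instance fin : Finite GG := cert.card_eq_of_empty.1

theorem card : Nat.card GG = 15120 := cert.card_eq_of_empty.2.trans cert_n

theorem rel (k : ℕ) (hk : k < extra.length) :
    PresentedGroup.mk (relSet edges extra) (extra[k]) = 1 :=
  PresentedGroup.one_of_mem (Or.inr (List.getElem_mem hk))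

/-- The generators, indexed by the natural numbers. -/
noncomputable def Yg (i : ℕ) : GG := if h : i < 6 then PresentedGroup.of ⟨i, h⟩ else 1

theorem Yg_lt (i : ℕ) (h : i < 6) : Yg i = PresentedGroup.of ⟨i, h⟩ := dif_pos h

theorem mk_y (i : Fin 6) : PresentedGroup.mk (relSet edges extra) (y i) = Yg i.val := by
  rw [Yg_lt _ i.2]
  rfl

theorem r_cube : Yg 0 ^ 3 = 1 := by
  have h := rel 0 (by decide)
  change PresentedGroup.mk (relSet edges extra) (y 0 ^ 3) = 1 at h
  simp only [map_mul, map_pow, map_inv, mk_y] at h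
  exact h

theorem r_sq1 : Yg 1 ^ 2 = Yg 5 ^ 3 := by
  have h := rel 1 (by decide)
  change PresentedGroup.mk (relSet edges extra) (y 1 ^ 2 * ((y 5) ^ 3)⁻¹) = 1 at h
  simp only [map_mul, map_pow, map_inv, mk_y] at h
  exact mul_inv_eq_one.1 h

theorem r_sq2 : Yg 2 ^ 2 = Yg 5 ^ 3 := by
  have h := rel 2 (by decide)
  change PresentedGroup.mk (relSet edges extra) (y 2 ^ 2 * ((y 5) ^ 3)⁻¹) = 1 at h
  simp only [map_mul, map_pow, map_inv, mk_y] at h
  exact mul_inv_eq_one.1 h

theorem r_sq3 : Yg 3 ^ 2 = Yg 5 ^ 3 := by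
  have h := rel 3 (by decide)
  change PresentedGroup.mk (relSet edges extra) (y 3 ^ 2 * ((y 5) ^ 3)⁻¹) = 1 at h
  simp only [map_mul, map_pow, map_inv, mk_y] at h
  exact mul_inv_eq_one.1 h

theorem r_sq4 : Yg 4 ^ 2 = Yg 5 ^ 3 := by
  have h := rel 4 (by decide)
  change PresentedGroup.mk (relSet edges extra) (y 4 ^ 2 * ((y 5) ^ 3)⁻¹) = 1 at h
  simp only [map_mul, map_pow, map_inv, mk_y] at h
  exact mul_inv_eq_one.1 h

theorem r_adj0 : (Yg 0 * Yg 1) ^ 3 = 1 := by
  have h := rel 5 (by decide)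
  change PresentedGroup.mk (relSet edges extra) ((y 0 * y 1) ^ 3) = 1 at h
  simp only [map_mul, map_pow, map_inv, mk_y] at h
  exact h

theorem r_adj1 : (Yg 1 * Yg 2) ^ 3 = 1 := by
  have h := rel 6 (by decide)
  change PresentedGroup.mk (relSet edges extra) ((y 1 * y 2) ^ 3) = 1 at h
  simp only [map_mul, map_pow, map_inv, mk_y] at h
  exact h

theorem r_adj2 : (Yg 2 * Yg 3) ^ 3 = 1 := by
  have h := rel 7 (by decide)
  change PresentedGroup.mk (relSet edges extra) ((y 2 * y 3) ^ 3) = 1 at h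
  simp only [map_mul, map_pow, map_inv, mk_y] at h
  exact h

theorem r_adj3 : (Yg 3 * Yg 4) ^ 3 = 1 := by
  have h := rel 8 (by decide)
  change PresentedGroup.mk (relSet edges extra) ((y 3 * y 4) ^ 3) = 1 at h
  simp only [map_mul, map_pow, map_inv, mk_y] at h
  exact h

theorem r_far02 : (Yg 0 * Yg 2) ^ 2 = Yg 5 ^ 3 := by
  have h := rel 9 (by decide)
  change PresentedGroup.mk (relSet edges extra) ((y 0 * y 2) ^ 2 * ((y 5) ^ 3)⁻¹) = 1 at h
  simp only [map_mul, map_pow, map_inv, mk_y] at h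
  exact mul_inv_eq_one.1 h

theorem r_far03 : (Yg 0 * Yg 3) ^ 2 = Yg 5 ^ 1 := by
  have h := rel 10 (by decide)
  change PresentedGroup.mk (relSet edges extra) ((y 0 * y 3) ^ 2 * ((y 5) ^ 1)⁻¹) = 1 at h
  simp only [map_mul, map_pow, map_inv, mk_y] at h
  exact mul_inv_eq_one.1 h

theorem r_far04 : (Yg 0 * Yg 4) ^ 2 = Yg 5 ^ 3 := by
  have h := rel 11 (by decide)
  change PresentedGroup.mk (relSet edges extra) ((y 0 * y 4) ^ 2 * ((y 5) ^ 3)⁻¹) = 1 at h
  simp only [map_mul, map_pow, map_inv, mk_y] at h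
  exact mul_inv_eq_one.1 h

theorem r_far13 : (Yg 1 * Yg 3) ^ 2 = Yg 5 ^ 3 := by
  have h := rel 12 (by decide)
  change PresentedGroup.mk (relSet edges extra) ((y 1 * y 3) ^ 2 * ((y 5) ^ 3)⁻¹) = 1 at h
  simp only [map_mul, map_pow, map_inv, mk_y] at h
  exact mul_inv_eq_one.1 h

theorem r_far14 : (Yg 1 * Yg 4) ^ 2 = Yg 5 ^ 3 := by
  have h := rel 13 (by decide)
  change PresentedGroup.mk (relSet edges extra) ((y 1 * y 4) ^ 2 * ((y 5) ^ 3)⁻¹) = 1 at h
  simp only [map_mul, map_pow, map_inv, mk_y] at h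
  exact mul_inv_eq_one.1 h

theorem r_far24 : (Yg 2 * Yg 4) ^ 2 = Yg 5 ^ 3 := by
  have h := rel 14 (by decide)
  change PresentedGroup.mk (relSet edges extra) ((y 2 * y 4) ^ 2 * ((y 5) ^ 3)⁻¹) = 1 at h
  simp only [map_mul, map_pow, map_inv, mk_y] at h
  exact mul_inv_eq_one.1 h

theorem r_z6 : Yg 5 ^ 6 = 1 := by
  have h := rel 15 (by decide)
  change PresentedGroup.mk (relSet edges extra) ((y 5) ^ 6) = 1 at h
  simp only [map_mul, map_pow, map_inv, mk_y] at h
  exact h

theorem r_com0 : Yg 5 * Yg 0 = Yg 0 * Yg 5 := by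
  have h := rel 16 (by decide)
  change PresentedGroup.mk (relSet edges extra) (y 5 * y 0 * (y 5)⁻¹ * (y 0)⁻¹) = 1 at h
  simp only [map_mul, map_pow, map_inv, mk_y] at h
  exact mul_inv_eq_iff_eq_mul.1 (mul_inv_eq_one.1 h)

theorem r_com1 : Yg 5 * Yg 1 = Yg 1 * Yg 5 := by
  have h := rel 17 (by decide)
  change PresentedGroup.mk (relSet edges extra) (y 5 * y 1 * (y 5)⁻¹ * (y 1)⁻¹) = 1 at h
  simp only [map_mul, map_pow, map_inv, mk_y] at h
  exact mul_inv_eq_iff_eq_mul.1 (mul_inv_eq_one.1 h)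

theorem r_com2 : Yg 5 * Yg 2 = Yg 2 * Yg 5 := by
  have h := rel 18 (by decide)
  change PresentedGroup.mk (relSet edges extra) (y 5 * y 2 * (y 5)⁻¹ * (y 2)⁻¹) = 1 at h
  simp only [map_mul, map_pow, map_inv, mk_y] at h
  exact mul_inv_eq_iff_eq_mul.1 (mul_inv_eq_one.1 h)

theorem r_com3 : Yg 5 * Yg 3 = Yg 3 * Yg 5 := by
  have h := rel 19 (by decide)
  change PresentedGroup.mk (relSet edges extra) (y 5 * y 3 * (y 5)⁻¹ * (y 3)⁻¹) = 1 at h
  simp only [map_mul, map_pow, map_inv, mk_y] at h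
  exact mul_inv_eq_iff_eq_mul.1 (mul_inv_eq_one.1 h)

theorem r_com4 : Yg 5 * Yg 4 = Yg 4 * Yg 5 := by
  have h := rel 20 (by decide)
  change PresentedGroup.mk (relSet edges extra) (y 5 * y 4 * (y 5)⁻¹ * (y 4)⁻¹) = 1 at h
  simp only [map_mul, map_pow, map_inv, mk_y] at h
  exact mul_inv_eq_iff_eq_mul.1 (mul_inv_eq_one.1 h)

/-- The images of the generators in the alternating group. -/
noncomputable def fgen : Fin 6 → PresentedGroup (carRels 5) := fun i => tgen 5 i.val

theorem tgen_top : tgen 5 5 = 1 := by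
  unfold tgen
  rw [dif_neg (by omega)]

theorem fgen_rels : ∀ r ∈ relSet edges extra, FreeGroup.lift fgen r = 1 := by
  intro r hr
  rcases hr with ⟨x, hx, -⟩ | hr
  · simp [Cfsg.Spor.coxNodes, edges] at hx
  · have hr' : r ∈ extra := hr
    simp only [extra, List.mem_cons, List.mem_nil_iff, or_false] at hr'
    have hv : ∀ i : Fin 6, FreeGroup.lift fgen (y i) = tgen 5 i.val := fun i =>
      FreeGroup.lift_apply_of
    rcases hr' with rfl | rfl | rfl | rfl | rfl | rfl | rfl | rfl | rfl | rfl | rfl | rfl | rfl | rfl | rfl | rfl | rfl | rfl | rfl | rfl | rfl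
    · -- cube
      simp only [map_mul, map_pow, map_inv, hv]
      show tgen 5 0 ^ 3 = 1
      rw [tgen_of_lt 5 0 (by omega)]
      exact rel_cube 5 _ rfl
    · -- sq1
      simp only [map_mul, map_pow, map_inv, hv]
      show tgen 5 1 ^ 2 * ((tgen 5 5) ^ 3)⁻¹ = 1
      rw [tgen_top, one_pow, inv_one, mul_one, tgen_of_lt 5 1 (by omega)]
      exact rel_sq 5 _ (by show 1 ≤ 1; omega)
    · -- sq2
      simp only [map_mul, map_pow, map_inv, hv]
      show tgen 5 2 ^ 2 * ((tgen 5 5) ^ 3)⁻¹ = 1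
      rw [tgen_top, one_pow, inv_one, mul_one, tgen_of_lt 5 2 (by omega)]
      exact rel_sq 5 _ (by show 1 ≤ 2; omega)
    · -- sq3
      simp only [map_mul, map_pow, map_inv, hv]
      show tgen 5 3 ^ 2 * ((tgen 5 5) ^ 3)⁻¹ = 1
      rw [tgen_top, one_pow, inv_one, mul_one, tgen_of_lt 5 3 (by omega)]
      exact rel_sq 5 _ (by show 1 ≤ 3; omega)
    · -- sq4
      simp only [map_mul, map_pow, map_inv, hv]
      show tgen 5 4 ^ 2 * ((tgen 5 5) ^ 3)⁻¹ = 1
      rw [tgen_top, one_pow, inv_one, mul_one, tgen_of_lt 5 4 (by omega)]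
      exact rel_sq 5 _ (by show 1 ≤ 4; omega)
    · -- adj0
      simp only [map_mul, map_pow, map_inv, hv]
      show (tgen 5 0 * tgen 5 1) ^ 3 = 1
      rw [tgen_of_lt 5 0 (by omega), tgen_of_lt 5 1 (by omega)]
      exact rel_adj 5 _ _ rfl
    · -- adj1
      simp only [map_mul, map_pow, map_inv, hv]
      show (tgen 5 1 * tgen 5 2) ^ 3 = 1
      rw [tgen_of_lt 5 1 (by omega), tgen_of_lt 5 2 (by omega)]
      exact rel_adj 5 _ _ rfl
    · -- adj2
      simp only [map_mul, map_pow, map_inv, hv]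
      show (tgen 5 2 * tgen 5 3) ^ 3 = 1
      rw [tgen_of_lt 5 2 (by omega), tgen_of_lt 5 3 (by omega)]
      exact rel_adj 5 _ _ rfl
    · -- adj3
      simp only [map_mul, map_pow, map_inv, hv]
      show (tgen 5 3 * tgen 5 4) ^ 3 = 1
      rw [tgen_of_lt 5 3 (by omega), tgen_of_lt 5 4 (by omega)]
      exact rel_adj 5 _ _ rfl
    · -- far02
      simp only [map_mul, map_pow, map_inv, hv]
      show (tgen 5 0 * tgen 5 2) ^ 2 * ((tgen 5 5) ^ 3)⁻¹ = 1
      rw [tgen_top, one_pow, inv_one, mul_one, tgen_of_lt 5 0 (by omega), tgen_of_lt 5 2 (by omega)]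
      exact rel_far 5 _ _ (by show 0 + 1 < 2; omega)
    · -- far03
      simp only [map_mul, map_pow, map_inv, hv]
      show (tgen 5 0 * tgen 5 3) ^ 2 * ((tgen 5 5) ^ 1)⁻¹ = 1
      rw [tgen_top, one_pow, inv_one, mul_one, tgen_of_lt 5 0 (by omega), tgen_of_lt 5 3 (by omega)]
      exact rel_far 5 _ _ (by show 0 + 1 < 3; omega)
    · -- far04
      simp only [map_mul, map_pow, map_inv, hv]
      show (tgen 5 0 * tgen 5 4) ^ 2 * ((tgen 5 5) ^ 3)⁻¹ = 1
      rw [tgen_top, one_pow, inv_one, mul_one, tgen_of_lt 5 0 (by omega), tgen_of_lt 5 4 (by omega)]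
      exact rel_far 5 _ _ (by show 0 + 1 < 4; omega)
    · -- far13
      simp only [map_mul, map_pow, map_inv, hv]
      show (tgen 5 1 * tgen 5 3) ^ 2 * ((tgen 5 5) ^ 3)⁻¹ = 1
      rw [tgen_top, one_pow, inv_one, mul_one, tgen_of_lt 5 1 (by omega), tgen_of_lt 5 3 (by omega)]
      exact rel_far 5 _ _ (by show 1 + 1 < 3; omega)
    · -- far14
      simp only [map_mul, map_pow, map_inv, hv]
      show (tgen 5 1 * tgen 5 4) ^ 2 * ((tgen 5 5) ^ 3)⁻¹ = 1
      rw [tgen_top, one_pow, inv_one, mul_one, tgen_of_lt 5 1 (by omega), tgen_of_lt 5 4 (by omega)]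
      exact rel_far 5 _ _ (by show 1 + 1 < 4; omega)
    · -- far24
      simp only [map_mul, map_pow, map_inv, hv]
      show (tgen 5 2 * tgen 5 4) ^ 2 * ((tgen 5 5) ^ 3)⁻¹ = 1
      rw [tgen_top, one_pow, inv_one, mul_one, tgen_of_lt 5 2 (by omega), tgen_of_lt 5 4 (by omega)]
      exact rel_far 5 _ _ (by show 2 + 1 < 4; omega)
    · -- z6
      simp only [map_mul, map_pow, map_inv, hv]
      show (tgen 5 5) ^ 6 = 1
      rw [tgen_top, one_pow]
    · -- com0
      simp only [map_mul, map_pow, map_inv, hv]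
      show tgen 5 5 * tgen 5 0 * (tgen 5 5)⁻¹ * (tgen 5 0)⁻¹ = 1
      rw [tgen_top, inv_one, one_mul, mul_one, mul_inv_cancel]
    · -- com1
      simp only [map_mul, map_pow, map_inv, hv]
      show tgen 5 5 * tgen 5 1 * (tgen 5 5)⁻¹ * (tgen 5 1)⁻¹ = 1
      rw [tgen_top, inv_one, one_mul, mul_one, mul_inv_cancel]
    · -- com2
      simp only [map_mul, map_pow, map_inv, hv]
      show tgen 5 5 * tgen 5 2 * (tgen 5 5)⁻¹ * (tgen 5 2)⁻¹ = 1
      rw [tgen_top, inv_one, one_mul, mul_one, mul_inv_cancel]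
    · -- com3
      simp only [map_mul, map_pow, map_inv, hv]
      show tgen 5 5 * tgen 5 3 * (tgen 5 5)⁻¹ * (tgen 5 3)⁻¹ = 1
      rw [tgen_top, inv_one, one_mul, mul_one, mul_inv_cancel]
    · -- com4
      simp only [map_mul, map_pow, map_inv, hv]
      show tgen 5 5 * tgen 5 4 * (tgen 5 5)⁻¹ * (tgen 5 4)⁻¹ = 1
      rw [tgen_top, inv_one, one_mul, mul_one, mul_inv_cancel]

/-- The homomorphism onto the alternating group. -/
noncomputable def piHom : GG →* PresentedGroup (carRels 5) := PresentedGroup.toGroup fgen_rels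

theorem piHom_Yg (i : ℕ) (h : i < 6) : piHom (Yg i) = tgen 5 i := by
  rw [Yg_lt i h]
  exact PresentedGroup.toGroup.of _

theorem gen_top : Subgroup.closure ({g | ∃ i, i < 5 ∧ g = Yg i} ∪ {Yg 5}) = ⊤ := by
  rw [eq_top_iff, ← PresentedGroup.closure_range_of]
  apply Subgroup.closure_mono
  rintro _ ⟨i, rfl⟩
  by_cases h : i.val < 5
  · exact Or.inl ⟨i.val, h, (Yg_lt i.val i.2).symm⟩
  · have h2 : i.val = 5 := by have := i.2; omega
    refine Or.inr ?_
    rw [Set.mem_singleton_iff, ← h2, Yg_lt i.val i.2]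

/-- The data of the cover. -/
noncomputable def data : CovData GG 5 where
  Y := Yg
  Z := Yg 5
  gen := gen_top
  comm := by
    intro i hi
    interval_cases i
    · exact r_com0
    · exact r_com1
    · exact r_com2
    · exact r_com3
    · exact r_com4
  z6 := r_z6
  cube := r_cube
  sq := by
    intro i h1 h2
    interval_cases i
    · exact r_sq1
    · exact r_sq2
    · exact r_sq3
    · exact r_sq4
  adj := by
    intro i h
    have h' : i < 4 := by omega
    interval_cases i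
    · exact r_adj0
    · exact r_adj1
    · exact r_adj2
    · exact r_adj3
  far := by
    intro i j h1 h2 h3
    have hi : i < 5 := by omega
    interval_cases i <;> interval_cases j <;> first | omega | exact absurd ⟨rfl, rfl⟩ h3 | exact r_far02 | exact r_far04 | exact r_far13 | exact r_far14 | exact r_far24
  far03 := r_far03
  π := piHom
  πY := fun i hi => piHom_Yg i (by omega)
  πZ := by rw [piHom_Yg 5 (by omega), tgen_top]

theorem card_eq : Nat.card GG = 6 * Nat.card (PresentedGroup (carRels 5)) := by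
  rw [card]
  have e := MulEquiv.ofBijective (toAltHom 5) (toAltHom_bijective 5)
  rw [Nat.card_congr e.toEquiv]
  have hnt : Nontrivial (Fin (5 + 2)) := Fin.nontrivial_iff_two_le.mpr (by omega)
  have hA : 2 * Nat.card (alternatingGroup (Fin (5 + 2))) = (5 + 2).factorial := by
    rw [two_mul_nat_card_alternatingGroup, Nat.card_perm, Nat.card_eq_fintype_card,
      Fintype.card_fin]
  have hf : (5 + 2).factorial = 5040 := by decide
  omega

theorem isStem : Cfsg.IsStemExtension data.π := data.isStem (by omega)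

theorem card_ker : Nat.card data.π.ker = 6 := data.card_ker card_eq

theorem nonempty_ker_equiv : Nonempty (data.π.ker ≃* Multiplicative (ZMod 6)) :=
  data.nonempty_ker_equiv (by omega) card_eq

end Cfsg.Agent.Helper9.AltCov.C7
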