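import Mathlib
import Cfsg.Agent.Lib.Helper20.AltMultG

/-!
# Stem covers of `A₆` and `A₇`: the kernel has order dividing `6`

This continues the computation of `Cfsg.Agent.Helper20.AltMult` (Schur's computation with
Carmichael's presentation) in the two exceptional degrees.
-/

set_option autoImplicit false

namespace Cfsg.Agent.Helper9.AltCov

open Cfsg.Agent.Helper11.Carmichael Cfsg.Agent.Helper20.AltMult

variable {Γ : Type*} [Group Γ]

/-- The odd case for `m = 4, 5`: the kernel has order dividing `3`. -/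
theorem card_ker_dvd_three_of_odd {n : ℕ} (C : Cov Γ (n + 1)) [Finite C.σ.ker]
    (hodd : Odd (Nat.card C.σ.ker)) (hm : n + 1 = 4 ∨ n + 1 = 5) : Nat.card C.σ.ker ∣ 3 := by
  obtain ⟨y, hy, hsq, h02⟩ := exists_odd_lift C hodd
  have h2m : 2 < n + 1 := by omega
  have hK : ∀ x ∈ C.σ.ker, ∀ k : ℕ, x ^ (2 ^ k) = 1 → x = 1 :=
    fun x hx k h => odd_pow_two_eq_one hodd hx k h
  have F1 : ∀ i j, 1 ≤ i → i + 2 ≤ j → j < n + 1 → (y i * y j) ^ 2 = 1 := by
    intro i j hi hij hj
    have hmem := mem_ker_far C hy i j (by omega) hj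
    have := inv_pow_sq (y i) (y j) (hsq i hi (by omega)) (hsq j (by omega) hj) 2 (C.cen hmem)
    exact hK _ hmem 1 (by simpa using this)
  have F2 : ∀ i, 1 ≤ i → i + 1 < n + 1 → (y i * y (i + 1)) ^ 3 = 1 := by
    intro i hi hi1
    have hmem := mem_ker_adj C hy i hi1
    have := inv_pow_sq (y i) (y (i + 1)) (hsq i hi (by omega)) (hsq (i + 1) (by omega) hi1) 3
      (C.cen hmem)
    exact hK _ hmem 1 (by simpa using this)
  have F3 : y 0 ^ 3 = 1 := by
    have hmem := mem_ker_cube C hy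
    have := cube_sq_eq (y 0) (y 2) (hsq 2 (by omega) h2m)
      (C.cen (mem_ker_far C hy 0 2 (by omega) h2m)) (C.cen hmem)
    rw [h02 h2m, one_pow] at this
    exact hK _ hmem 1 (by simpa using this)
  have F4 : (y 0 * y 1) ^ 3 = 1 := by
    have hmem := mem_ker_adj C hy 0 (by omega)
    have := a4_odd (y 0) (y 1) F3 (hsq 1 le_rfl (by omega)) (C.cen hmem)
    exact hK _ hmem 2 (by simpa using this)
  have Feq : ∀ i j, 2 ≤ i → i + 2 ≤ j → j < n + 1 → (y 0 * y j) ^ 2 = (y 0 * y i) ^ 2 := by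
    intro i j hi hij hj
    have hmi := mem_ker_far C hy 0 i (by omega) (by omega)
    have hmj := mem_ker_far C hy 0 j (by omega) hj
    have := far_eq (y 0) (y i) (y j) (hsq i (by omega) (by omega)) (hsq j (by omega) hj)
      (F1 i j (by omega) hij hj) (C.cen hmi) (C.cen hmj)
    have hmem : ((y 0 * y i) ^ 2)⁻¹ * (y 0 * y j) ^ 2 ∈ C.σ.ker :=
      Subgroup.mul_mem _ (Subgroup.inv_mem _ hmi) hmj
    have h1 := hK _ hmem 1 (by simpa using this)
    exact (inv_mul_eq_one.mp h1).symm
  have F5 : ∀ j, 2 ≤ j → j < n + 1 → j ≠ 3 → (y 0 * y j) ^ 2 = 1 := by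
    intro j hj2 hj hj3
    by_cases h4 : 4 ≤ j
    · rw [Feq 2 j le_rfl (by omega) hj]; exact h02 h2m
    · have : j = 2 := by omega
      subst this
      exact h02 h2m
  have hεK : (y 0 * y 3) ^ 2 ∈ C.σ.ker := mem_ker_far C hy 0 3 (by omega) (by omega)
  have hε3 : ((y 0 * y 3) ^ 2) ^ 3 = 1 := by
    have := cube_sq_eq (y 0) (y 3) (hsq 3 (by omega) (by omega)) (C.cen hεK)
      (C.cen (mem_ker_cube C hy))
    rw [F3, one_pow] at this
    exact this.symm
  have hle : C.σ.ker ≤ Subgroup.zpowers ((y 0 * y 3) ^ 2) := by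
    apply C.ker_le_of_vals y hy
    · intro _; rw [F3]; exact Subgroup.one_mem _
    · intro i hi1 hi; rw [hsq i hi1 hi]; exact Subgroup.one_mem _
    · intro i hi
      by_cases h0 : i = 0
      · subst h0; rw [F4]; exact Subgroup.one_mem _
      · rw [F2 i (by omega) hi]; exact Subgroup.one_mem _
    · intro i j hij hj
      by_cases h0 : i = 0
      · subst h0
        by_cases h3 : j = 3
        · subst h3; exact Subgroup.mem_zpowers _
        · rw [F5 j (by omega) hj h3]; exact Subgroup.one_mem _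
      · rw [F1 i j (by omega) (by omega) hj]; exact Subgroup.one_mem _
  have hd : Nat.card C.σ.ker ∣ Nat.card (Subgroup.zpowers ((y 0 * y 3) ^ 2)) :=
    Subgroup.card_dvd_of_le hle
  rw [Nat.card_zpowers] at hd
  exact hd.trans (orderOf_dvd_of_pow_eq_one hε3)

/-- **The multiplier of `A₆` and `A₇`**: a stem cover has kernel of order dividing `6`. -/
theorem card_ker_dvd_six {m : ℕ} (C : Cov Γ m) [Finite Γ] (hm : m = 4 ∨ m = 5) :
    Nat.card C.σ.ker ∣ 6 := by
  obtain ⟨n, rfl⟩ : ∃ n, m = n + 1 := ⟨m - 1, by omega⟩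
  haveI : Fact (Nat.Prime 2) := ⟨Nat.prime_two⟩
  haveI : Fact (Nat.Prime 3) := ⟨Nat.prime_three⟩
  obtain ⟨P⟩ : Nonempty (Sylow 2 C.σ.ker) := inferInstance
  have hMle : (P : Subgroup C.σ.ker).map C.σ.ker.subtype ≤ C.σ.ker := by
    rintro _ ⟨x, -, rfl⟩
    exact x.2
  haveI hMn : ((P : Subgroup C.σ.ker).map C.σ.ker.subtype).Normal :=
    normal_of_le_center (hMle.trans C.cen)
  have hMcard : Nat.card ((P : Subgroup C.σ.ker).map C.σ.ker.subtype) =
      2 ^ (Nat.card C.σ.ker).factorization 2 := by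
    rw [Subgroup.card_map_of_injective (Subgroup.subtype_injective _)]
    exact P.card_eq_multiplicity
  have hq := C.card_quot _ hMle
  rw [hMcard] at hq
  have hKpos : Nat.card C.σ.ker ≠ 0 := Nat.card_pos.ne'
  have hodd : Odd (Nat.card (C.quot _ hMle).σ.ker) := by
    rw [← Nat.not_even_iff_odd, even_iff_two_dvd]
    have h1 : Nat.card (C.quot _ hMle).σ.ker =
        Nat.card C.σ.ker / 2 ^ (Nat.card C.σ.ker).factorization 2 := by
      exact (Nat.div_eq_of_eq_mul_left (pow_pos (by norm_num) _) hq).symm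
    rw [h1]
    exact Nat.not_dvd_ordCompl Nat.prime_two hKpos
  have hd := card_ker_dvd_three_of_odd (C.quot _ hMle) hodd hm
  generalize (Nat.card C.σ.ker).factorization 2 = a at hq
  rcases (Nat.dvd_prime Nat.prime_three).1 hd with h1 | h3
  · -- the kernel is a `2`-group
    rw [h1, one_mul] at hq
    have hn3 : ¬ 3 ∣ Nat.card C.σ.ker := by
      rw [hq]
      intro h
      have := Nat.Prime.dvd_of_dvd_pow Nat.prime_three h
      omega
    have hle := card_ker_le_two C hn3 (by omega)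
    have hpos : 0 < Nat.card C.σ.ker := Nat.card_pos
    generalize Nat.card C.σ.ker = k at hle hpos ⊢
    interval_cases k <;> decide
  · -- the kernel has order `3 * 2 ^ a`
    rw [h3] at hq
    have h3d : 3 ∣ Nat.card C.σ.ker := ⟨2 ^ a, hq⟩
    obtain ⟨x, hx⟩ := exists_prime_orderOf_dvd_card' 3 h3d
    have hxK : (x : Γ) ∈ C.σ.ker := x.2
    have hM3le : Subgroup.zpowers (x : Γ) ≤ C.σ.ker := by
      rw [Subgroup.zpowers_le]
      exact hxK
    haveI hM3n : (Subgroup.zpowers (x : Γ)).Normal := normal_of_le_center (hM3le.trans C.cen)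
    have hM3card : Nat.card (Subgroup.zpowers (x : Γ)) = 3 := by
      rw [Nat.card_zpowers, Subgroup.orderOf_coe, hx]
    have hq3 := C.card_quot _ hM3le
    rw [hM3card, hq] at hq3
    have hk : Nat.card (C.quot _ hM3le).σ.ker = 2 ^ a := by omega
    have hn3 : ¬ 3 ∣ Nat.card (C.quot _ hM3le).σ.ker := by
      rw [hk]
      intro h
      have := Nat.Prime.dvd_of_dvd_pow Nat.prime_three h
      omega
    have hle := card_ker_le_two (C.quot _ hM3le) hn3 (by omega)
    rw [hk] at hle
    rw [hq]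
    have hpos : 0 < 2 ^ a := pow_pos (by norm_num) _
    generalize 2 ^ a = k at hle hpos ⊢
    interval_cases k <;> decide

end Cfsg.Agent.Helper9.AltCov
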