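import Mathlib
import Cfsg.Agent.Lib.Helper9.AltCov.Upper
import Cfsg.Agent.Lib.Helper9.AltCov.C6
import Cfsg.Agent.Lib.Helper9.AltCov.C7
import Cfsg.Agent.Lib.Helper20.SchurCover3
import Cfsg.Agent.Lib.Helper11.SchurTransport

/-!
# The Schur multiplier of `A₆` and `A₇` is cyclic of order six
-/

set_option autoImplicit false

namespace Cfsg.Agent.Helper9.AltCov

open Cfsg.Agent.Helper11.Carmichael Cfsg.Agent.Helper20.AltMult Cfsg.Agent.Helper20
open Cfsg.Agent.Helper11.SchurTransport

/-- From a sixfold stem cover to the Schur multiplier. -/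
theorem hasSchur_car {m : ℕ} (hm : m = 4 ∨ m = 5) {Γ : Type} [Group Γ] [Finite Γ]
    (π : Γ →* PresentedGroup (carRels m)) (hst : Cfsg.IsStemExtension π)
    (hcard : Nat.card π.ker = 6) (hk : Nonempty (π.ker ≃* Multiplicative (ZMod 6))) :
    Cfsg.HasCyclicSchurMultiplier (PresentedGroup (carRels m)) 6 := by
  haveI : Finite (PresentedGroup (carRels m)) := (finite_card m).1
  have hM := hasSchurMultiplier_schurM (PresentedGroup (carRels m))
  obtain ⟨⟨Γ0, _, _, σ0, hσ0, ⟨k0⟩⟩, h2⟩ := hM
  have hd : Nat.card σ0.ker ∣ 6 :=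
    card_ker_dvd_six (⟨σ0, hσ0.1, hσ0.2.1, hσ0.2.2⟩ : Cov Γ0 m) hm
  haveI : Finite (schurM (PresentedGroup (carRels m))) := Finite.of_equiv _ k0.toEquiv
  have hle : Nat.card (schurM (PresentedGroup (carRels m))) ≤ 6 := by
    rw [← Nat.card_congr k0.toEquiv]
    exact Nat.le_of_dvd (by norm_num) hd
  obtain ⟨p, hp⟩ := h2 Γ π hst
  have hbij : Function.Bijective p := by
    apply hp.bijective_of_nat_card_le
    rw [hcard]
    exact hle
  obtain ⟨e⟩ := hk
  exact hasSchurMultiplier_congr ((MulEquiv.ofBijective p hbij).trans e)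
    (hasSchurMultiplier_schurM (PresentedGroup (carRels m)))

/-- The Schur multiplier of the alternating group of degree six is cyclic of order six. -/
theorem hasSchur_six : Cfsg.HasCyclicSchurMultiplier (alternatingGroup (Fin 6)) 6 :=
  hasSchurMultiplier_of_mulEquiv
    (MulEquiv.ofBijective (toAltHom 4) (toAltHom_bijective 4)).symm
    (hasSchur_car (Or.inl rfl) C6.data.π C6.isStem C6.card_ker C6.nonempty_ker_equiv)

/-- The Schur multiplier of the alternating group of degree seven is cyclic of order six. -/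
theorem hasSchur_seven : Cfsg.HasCyclicSchurMultiplier (alternatingGroup (Fin 7)) 6 :=
  hasSchurMultiplier_of_mulEquiv
    (MulEquiv.ofBijective (toAltHom 5) (toAltHom_bijective 5)).symm
    (hasSchur_car (Or.inr rfl) C7.data.π C7.isStem C7.card_ker C7.nonempty_ker_equiv)

end Cfsg.Agent.Helper9.AltCov
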